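import Cfsg.Agent.Lib.KnownB.TypeM22.Pairs
import Cfsg.Agent.Lib.KnownB.TypeM22Unique.Main
import Cfsg.Agent.Lib.Spor.Fi22.FixPoint.Main

/-!
Every automorphism of order two of a group of type M(22) fixes one of the members.
-/

set_option autoImplicit false

namespace CfsgLib.KnownB.TypeM22

open Cfsg CfsgLib.Classical.Unitary

universe v

variable {F : Type} [Field F] {σ : F →+* F} {hF : Nat.card F = 2 ^ 2} {h : UFrob σ 2}
  {G : Type v} [Group G] [Finite G] {D : Set G}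

/-- An automorphism of order two fixes a member. -/
theorem Setting.aut_fixes (S : Setting D) (hP : Maps hF h D) (φ : MulAut G) (hφ : orderOf φ = 2) :
    ∃ d ∈ D, φ d = d := by
  obtain ⟨e, he⟩ := Unique.exists_iso_of_setting S
  obtain ⟨ψ, hψ⟩ : ∃ ψ : MulAut Cfsg.Spor.Fi22, ψ = e.symm.trans (φ.trans e) := ⟨_, rfl⟩
  have h2 : ∀ x, φ (φ x) = x := fun x => by
    rw [← MulAut.mul_apply, ← pow_two, ← hφ, pow_orderOf_eq_one, MulAut.one_apply]
  obtain ⟨c, hc, hfix⟩ := CfsgLib.Spor.Fi22.FixPoint.exists_fixed ψ (fun x hx => by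
    rw [← he] at hx ⊢
    obtain ⟨d, hd, rfl⟩ := hx
    exact ⟨φ d, S.aut_mem hP φ hd, by simp [hψ]⟩) (fun x => by simp [hψ, h2])
  rw [← he] at hc
  obtain ⟨d, hd, rfl⟩ := hc
  refine ⟨d, hd, e.injective ?_⟩
  simpa [hψ] using hfix

end CfsgLib.KnownB.TypeM22
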