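import Cfsg.Agent.Lib.KnownB.TypeM22Local.PairIso
import Cfsg.Agent.Lib.Spor.Fi22.PairCent.Large

/-!
The centraliser of a product of two commuting members in the automorphism group of a group of type M(22).
-/

set_option autoImplicit false

namespace CfsgLib.KnownB.TypeM22

open Cfsg CfsgLib.ThreeTransp
open CfsgLib.Spor.Fi22 CfsgLib.Spor.Fi22.PairCent

universe v

variable {G : Type v} [Group G] [Finite G] {D : Set G}

/-- The large extraspecial subgroup in the automorphism group. -/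
theorem aut_large (hD : IsThreeTranspositionGroup D) (hp : IsPrimitiveUnderConj D) (ht : IsOfTypeM22 G D)
    {d₁ d₂ : G} (h₁ : d₁ ∈ D) (h₂ : d₂ ∈ D) (hne : d₁ ≠ d₂) (hc : Commute d₁ d₂) (j : MulAut G)
    (hj : j = MulAut.conj (d₁ * d₂)) (Q : Subgroup (MulAut G))
    (hQ : Q = (Cfsg.generalizedFittingSubgroup ↥(Subgroup.centralizer ({j} : Set (MulAut G)))).map
      (Subgroup.centralizer ({j} : Set (MulAut G))).subtype) :
    Cfsg.IsLargeExtraspecial Q ∧ Nat.card Q = 2 ^ 11 ∧ Q ≤ Subgroup.centralizer ({j} : Set (MulAut G)) ∧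
      ∃ (_ : (Q.subgroupOf (Subgroup.centralizer ({j} : Set (MulAut G)))).Normal) (F : Type) (_ : Field F)
        (_ : Fintype F), Fintype.card F = 4 ∧ Nonempty (↥(Subgroup.centralizer ({j} : Set (MulAut G))) ⧸
          Q.subgroupOf (Subgroup.centralizer ({j} : Set (MulAut G))) ≃* MulAut (Cfsg.PSU 4 F 2)) := by
  obtain ⟨e, -, ea, eb⟩ := exists_iso_pair hD hp ht h₁ h₂ hne hc
  obtain ⟨α, hα⟩ : ∃ α : MulAut G ≃* MulAut Cfsg.Spor.Fi22, α = MulAut.congr e := ⟨_, rfl⟩
  have hαj : α j = jA := by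
    rw [hα, hj, jA]
    ext x
    simp [MulAut.congr, MulAut.conj_apply, ea, eb, gz]
  have hC : (Subgroup.centralizer ({j} : Set (MulAut G))).map α.toMonoidHom =
      Subgroup.centralizer ({jA} : Set (MulAut Cfsg.Spor.Fi22)) := by
    ext b
    obtain ⟨a, rfl⟩ := α.surjective b
    rw [show α a = α.toMonoidHom a from rfl, Subgroup.mem_map_iff_mem (f := α.toMonoidHom) α.injective,
      Subgroup.mem_centralizer_singleton_iff, Subgroup.mem_centralizer_singleton_iff, ← hαj]
    show _ ↔ α a * α j = α j * α a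
    rw [← map_mul, ← map_mul, α.injective.eq_iff]
  obtain ⟨eC, heC⟩ : ∃ eC : ↥(Subgroup.centralizer ({j} : Set (MulAut G))) ≃*
      ↥(Subgroup.centralizer ({jA} : Set (MulAut Cfsg.Spor.Fi22))), ∀ c, (eC c : MulAut Cfsg.Spor.Fi22) = α c :=
    ⟨(α.subgroupMap _).trans (MulEquiv.subgroupCongr hC), fun _ => rfl⟩
  obtain ⟨hn, ⟨f⟩, hF⟩ := aut_main
  have hQα : Q.map α.toMonoidHom = qGrp := by
    rw [hQ, ← hF, ← CfsgLib.Components.fstar_map_equiv eC, Subgroup.map_map, Subgroup.map_map]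
    congr 1
    ext c : 1
    exact (heC c).symm
  have hQmem : ∀ a, α a ∈ qGrp ↔ a ∈ Q := fun a => by
    rw [← hQα]; exact Subgroup.mem_map_iff_mem (f := α.toMonoidHom) α.injective
  have hQs : qGrp.map α.symm.toMonoidHom = Q := by
    rw [← hQα, Subgroup.map_map]
    refine (congrArg Q.map ?_).trans (Subgroup.map_id Q)
    ext x : 1
    exact α.symm_apply_apply x
  have hle : Q ≤ Subgroup.centralizer ({j} : Set (MulAut G)) := by
    rw [hQ]; exact Subgroup.map_subtype_le _
  refine ⟨hQs ▸ large_equiv α.symm qGrp_large, ?_, hle, ?_⟩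
  · rw [← hQs, Subgroup.card_map_of_injective α.symm.injective, card_qGrp]
  obtain ⟨N, hN⟩ : ∃ N, N = Q.subgroupOf (Subgroup.centralizer ({j} : Set (MulAut G))) := ⟨_, rfl⟩
  have hNe : N.map eC.toMonoidHom = qGrp.subgroupOf (Subgroup.centralizer ({jA} : Set (MulAut Cfsg.Spor.Fi22))) := by
    ext c
    obtain ⟨a, rfl⟩ := eC.surjective c
    rw [show eC a = eC.toMonoidHom a from rfl, Subgroup.mem_map_iff_mem (f := eC.toMonoidHom) eC.injective,
      hN, Subgroup.mem_subgroupOf, Subgroup.mem_subgroupOf, ← hQmem]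
    exact Iff.of_eq (congrArg (· ∈ qGrp) (heC a).symm)
  haveI hnN : N.Normal := ⟨fun x hx g => by
    have h := Subgroup.Normal.conj_mem hn (eC x) (hNe ▸ Subgroup.mem_map_of_mem _ hx) (eC g)
    rw [← hNe, ← map_inv, ← map_mul, ← map_mul] at h
    exact (Subgroup.mem_map_iff_mem (f := eC.toMonoidHom) eC.injective).1 h⟩
  subst hN
  exact ⟨hnN, CfsgLib.Spor.QField, inferInstance, inferInstance, CfsgLib.Spor.QField.card_eq,
    ⟨(QuotientGroup.congr _ _ eC hNe).trans f⟩⟩

end CfsgLib.KnownB.TypeM22
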