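import Cfsg.Agent.Lib.KnownB.TypeM22Unique.Main
import Cfsg.Agent.Lib.Spor.Fi22.OuterFix.Main
import Cfsg.Agent.Lib.Spor.Fi22.OuterSA.Main
import Cfsg.Agent.Lib.Spor.Fi22.OuterSAB.Main
import Cfsg.Agent.Lib.Spor.Fi22.OuterClass.Main
import Cfsg.Agent.Lib.Base.Cores

/-!
The three classes of outer involutions of a group of type M(22) and their fixed groups.
-/

set_option autoImplicit false
set_option maxRecDepth 100000

namespace CfsgLib.KnownB.TypeM22.OuterInv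

open Cfsg CfsgLib.Spor.Fi22 CfsgLib.Spor.Fi22.PairCent
open CfsgLib.Spor.Fi22.OuterClass (stdA stdB)
open CfsgLib.Spor.Fi22.OuterFix (tpN tpN_eq iGrp mem_iGrp)

local instance : Finite Cfsg.Spor.Fi22 := CfsgLib.Spor.Fi22.finite

/-- conjugate automorphisms have fixed groups of equal order -/
theorem card_fixed_of_isConj {A : Type*} [Group A] {φ ψ : MulAut A} (h : IsConj φ ψ) (X Y : Subgroup A)
    (hX : ∀ g, g ∈ X ↔ φ g = g) (hY : ∀ g, g ∈ Y ↔ ψ g = g) : Nat.card X = Nat.card Y := by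
  obtain ⟨c, hc⟩ := h
  obtain ⟨c', hc'⟩ : ∃ c' : MulAut A, c' = (c : MulAut A) := ⟨_, rfl⟩
  have e : ∀ g, c' (φ g) = ψ (c' g) := fun g => by
    have := DFunLike.congr_fun (show (c : MulAut A) * φ = ψ * c from hc) g
    simpa [hc', MulAut.mul_apply] using this
  have hm : ∀ g, g ∈ X ↔ c' g ∈ Y := fun g => by
    rw [hX, hY, ← e, c'.injective.eq_iff]
  exact Nat.card_congr (c'.toEquiv.subtypeEquiv hm)

theorem a_ne_b : tpN stdA ≠ tpN stdB := by
  have h : Nat.blt stdA 3510 && Nat.blt stdB 3510 && !Nat.beq stdA stdB = true := by decide +kernel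
  simp only [Bool.and_eq_true, Nat.blt_eq, Bool.not_eq_true', ← Bool.not_eq_true, Nat.beq_eq] at h
  intro e
  rw [show tpN stdA = CfsgLib.Spor.FischerTypes.cls22.tp ⟨stdA, h.1.1⟩ from tpN_eq ⟨stdA, h.1.1⟩,
    show tpN stdB = CfsgLib.Spor.FischerTypes.cls22.tp ⟨stdB, h.1.2⟩ from tpN_eq ⟨stdB, h.1.2⟩] at e
  exact h.2 (decide_eq_true (congrArg Fin.val (CfsgLib.Spor.FischerTypes.cls22.tp_injective e)))

theorem ab_facts : tpN stdA ∈ cl ∧ tpN stdB ∈ cl ∧ tpN stdA ∈ iGrp ∧ tpN stdB ∈ iGrp ∧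
    Commute (tpN stdA) (tpN stdB) := by
  have h : (Nat.blt (OuterFix.lab stdA) 3 && Nat.blt (OuterFix.lab stdB) 3 &&
      Nat.beq (OuterFix.step stdA stdB) stdB) = true := by decide +kernel
  simp only [Bool.and_eq_true, Nat.blt_eq, Nat.beq_eq] at h
  obtain ⟨⟨ha, hb⟩, hs⟩ := h
  have hA := OuterFix.okP_fixed ha
  have hB := OuterFix.okP_fixed hb
  refine ⟨?_, ?_, OuterFix.tpN_iGrp ha, OuterFix.tpN_iGrp hb, ?_⟩
  · rw [show stdA = ((⟨stdA, OuterFix.okP_lt hA⟩ : Fin Perm.data.n) : ℕ) from rfl, tpN_eq]; exact tp_mem _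
  · rw [show stdB = ((⟨stdB, OuterFix.okP_lt hB⟩ : Fin Perm.data.n) : ℕ) from rfl, tpN_eq]; exact tp_mem _
  · have := (OuterFix.step_commute hA ⟨stdB, OuterFix.okP_lt hB⟩).1 hs
    rwa [← tpN_eq] at this

theorem orderOf_tau : orderOf PairCent.tau = 2 := by
  haveI : Fact (Nat.Prime 2) := ⟨Nat.prime_two⟩
  exact orderOf_eq_prime (by rw [pow_two]; exact tau_sq) fun h => tau_outer (h ▸ one_mem _)

theorem cards : 3317760 < Nat.card iGrp ∧ Nat.card OuterSA.sGrp = 2903040 ∧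
    Nat.card OuterSAB.uGrp = 3317760 := by
  refine ⟨lt_of_lt_of_le (by norm_num) (OuterFix.card_hGrp_le.trans
    (Nat.card_le_card_of_injective (Subgroup.inclusion OuterFix.hGrp_le) (Subgroup.inclusion_injective _))), ?_,
    OuterSAB.act_facts.2.2⟩
  exact le_antisymm OuterSA.card_sGrp (OuterSA.tGrp_eq ▸ OuterSA.card_tGrp)

theorem not_conj : ¬ IsConj PairCent.tau (PairCent.tau * MulAut.conj (tpN stdA)) ∧
    ¬ IsConj PairCent.tau (PairCent.tau * MulAut.conj (tpN stdA * tpN stdB)) ∧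
    ¬ IsConj (PairCent.tau * MulAut.conj (tpN stdA)) (PairCent.tau * MulAut.conj (tpN stdA * tpN stdB)) := by
  obtain ⟨h1, h2, h3⟩ := cards
  refine ⟨fun h => ?_, fun h => ?_, fun h => ?_⟩
  · have := card_fixed_of_isConj h iGrp OuterSA.sGrp (fun g => mem_iGrp) fun g => (OuterSA.fixed_iff_sa g).symm
    omega
  · have := card_fixed_of_isConj h iGrp OuterSAB.uGrp (fun g => mem_iGrp) fun g => OuterSAB.mem_uGrp
    omega
  · have := card_fixed_of_isConj h OuterSA.sGrp OuterSAB.uGrp (fun g => (OuterSA.fixed_iff_sa g).symm)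
      fun g => OuterSAB.mem_uGrp
    omega

universe v

variable {G : Type v} [Group G] [Finite G]

/-- the pullback of a subgroup along an isomorphism -/
noncomputable def pull (e : G ≃* Cfsg.Spor.Fi22) (U : Subgroup Cfsg.Spor.Fi22) : ↥(U.comap e.toMonoidHom) ≃* ↥U :=
  (e.subgroupMap _).trans (MulEquiv.subgroupCongr (Subgroup.map_comap_eq_self_of_surjective e.surjective U))

theorem outer_involutions {D : Set G} (hD : IsThreeTranspositionGroup D) (hp : IsPrimitiveUnderConj D)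
    (h22 : IsOfTypeM22 G D) :
    ∃ (s : MulAut G) (a b : G) (Cs : Subgroup G), orderOf s = 2 ∧ s ∉ (MulAut.conj : G →* MulAut G).range ∧
      (∀ g : G, g ∈ Cs ↔ s g = g) ∧
      Nonempty (↥Cs ≃* MulAut (Cfsg.Omega (ZMod 2) (Cfsg.quadFormPlus 4 (ZMod 2)))) ∧
      a ∈ D ∧ b ∈ D ∧ a ≠ b ∧ Commute a b ∧ s a = a ∧ s b = b ∧
      (∀ t : MulAut G, orderOf t = 2 → t ∉ (MulAut.conj : G →* MulAut G).range →
        (IsConj t s ∨ IsConj t (s * MulAut.conj a) ∨ IsConj t (s * MulAut.conj (a * b)))) ∧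
      ¬ IsConj s (s * MulAut.conj a) ∧ ¬ IsConj s (s * MulAut.conj (a * b)) ∧
      ¬ IsConj (s * MulAut.conj a) (s * MulAut.conj (a * b)) ∧
      (∀ g : G, (s * MulAut.conj a) g = g ↔ g ∈ Cs ⊓ Subgroup.centralizer ({a} : Set G)) ∧
      Nonempty (↥(Cs ⊓ Subgroup.centralizer ({a} : Set G)) ≃* Multiplicative (ZMod 2) × Cfsg.PSp 3 (ZMod 2)) ∧
      ∃ Csab O : Subgroup G, (∀ g : G, g ∈ Csab ↔ (s * MulAut.conj (a * b)) g = g) ∧
        O = (Cfsg.pCore 2 ↥Csab).map Csab.subtype ∧ Cfsg.IsElementaryAbelian 2 O ∧ Nat.card O = 64 ∧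
        ∃ _ : (O.subgroupOf Csab).Normal, Nonempty (↥Csab ⧸ O.subgroupOf Csab ≃*
          Cfsg.isometryGroup (ZMod 2) (Cfsg.quadFormMinus 2 (ZMod 2) 1 1)) := by
  obtain ⟨e, he⟩ := Unique.exists_iso_fi22 hD hp h22
  obtain ⟨α, hα⟩ : ∃ α : MulAut G ≃* MulAut Cfsg.Spor.Fi22, α = MulAut.congr e := ⟨_, rfl⟩
  have hαa : ∀ φ x, α φ x = e (φ (e.symm x)) := fun φ x => by rw [hα]; rfl
  have hfix : ∀ (φ : MulAut G) g, φ g = g ↔ α φ (e g) = e g := fun φ g => by
    rw [hαa, e.symm_apply_apply, e.injective.eq_iff]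
  have hconj : ∀ a, α (MulAut.conj a) = MulAut.conj (e a) := fun a => by
    ext x; simp [hαa, MulAut.conj_apply]
  have hrange : ∀ φ : MulAut G, φ ∈ (MulAut.conj : G →* MulAut G).range ↔
      α φ ∈ (MulAut.conj : Cfsg.Spor.Fi22 →* MulAut Cfsg.Spor.Fi22).range := by
    intro φ
    constructor
    · rintro ⟨a, rfl⟩
      exact ⟨e a, (hconj a).symm⟩
    · rintro ⟨x, hx⟩
      exact ⟨e.symm x, α.injective (by rw [hconj, e.apply_symm_apply, hx])⟩
  have hisc : ∀ φ ψ, IsConj φ ψ ↔ IsConj (α φ) (α ψ) := fun φ ψ =>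
    ⟨fun h => α.toMonoidHom.map_isConj h, fun h => by simpa using α.symm.toMonoidHom.map_isConj h⟩
  obtain ⟨s, hs⟩ : ∃ s, α s = PairCent.tau := α.surjective _
  obtain ⟨a, ha⟩ : ∃ a, e a = tpN stdA := e.surjective _
  obtain ⟨b, hb⟩ : ∃ b, e b = tpN stdB := e.surjective _
  obtain ⟨haD, hbD, haI, hbI, hab⟩ := ab_facts
  obtain ⟨n1, n2, n3⟩ := not_conj
  have hsa : α (s * MulAut.conj a) = PairCent.tau * MulAut.conj (tpN stdA) := by rw [map_mul, hs, hconj, ha]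
  have hsab : α (s * MulAut.conj (a * b)) = PairCent.tau * MulAut.conj (tpN stdA * tpN stdB) := by
    rw [map_mul α, hs, hconj, map_mul e, ha, hb]
  obtain ⟨Cs, hCs⟩ : ∃ Cs, Cs = iGrp.comap e.toMonoidHom := ⟨_, rfl⟩
  have hCsm : ∀ g, g ∈ Cs ↔ s g = g := fun g => by
    rw [hCs, Subgroup.mem_comap, hfix, hs]; exact mem_iGrp
  have hinf : Cs ⊓ Subgroup.centralizer ({a} : Set G) = OuterSA.sGrp.comap e.toMonoidHom := by
    ext g
    rw [Subgroup.mem_inf, Subgroup.mem_comap, OuterSA.sGrp, Subgroup.mem_inf, hCs, Subgroup.mem_comap,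
      Subgroup.mem_centralizer_singleton_iff, Subgroup.mem_centralizer_singleton_iff, ← ha]
    refine and_congr Iff.rfl ?_
    show _ ↔ e g * e a = e a * e g
    rw [← map_mul, ← map_mul, e.injective.eq_iff]
  have hmemD : ∀ x, e x ∈ cl → x ∈ D := fun x hx => by
    obtain ⟨d, hd, hde⟩ : e x ∈ e '' D := he ▸ hx
    exact e.injective hde ▸ hd
  refine ⟨s, a, b, Cs, ?_, ?_, hCsm, ?_, hmemD a (ha ▸ haD), hmemD b (hb ▸ hbD), ?_, ?_, ?_, ?_, ?_, ?_, ?_, ?_, ?_,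
    ?_, ?_⟩
  · rw [← MulEquiv.orderOf_eq α, hs, orderOf_tau]
  · rw [hrange, hs]; exact tau_outer
  · rw [hCs]
    exact OuterFix.main.2.map fun f => (pull e iGrp).trans f
  · intro h; exact a_ne_b (by rw [← ha, ← hb, h])
  · exact e.injective (by rw [map_mul, map_mul, ha, hb]; exact hab.eq)
  · rw [← hCsm, hCs, Subgroup.mem_comap]; exact (show e a ∈ iGrp from ha ▸ haI)
  · rw [← hCsm, hCs, Subgroup.mem_comap]; exact (show e b ∈ iGrp from hb ▸ hbI)
  · intro t ht hout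
    rw [hisc t s, hisc t (s * MulAut.conj a), hisc t (s * MulAut.conj (a * b)), hs, hsa, hsab]
    exact OuterClass.outer_class (α t) (by rw [MulEquiv.orderOf_eq, ht]) fun h => hout ((hrange t).2 h)
  · rw [hisc, hs, hsa]; exact n1
  · rw [hisc, hs, hsab]; exact n2
  · rw [hisc, hsa, hsab]; exact n3
  · intro g
    rw [hfix, hsa, hinf, Subgroup.mem_comap, OuterSA.fixed_iff_sa]
    rfl
  · rw [hinf]
    exact OuterSA.sGrp_iso.map fun f => (pull e OuterSA.sGrp).trans f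
  obtain ⟨O₀, hO₀, hel, hcard, hn₀, ⟨q⟩⟩ := OuterSAB.structure_thm
  obtain ⟨U, hU⟩ : ∃ U, U = OuterSAB.uGrp.comap e.toMonoidHom := ⟨_, rfl⟩
  subst hU
  obtain ⟨P, hP⟩ : ∃ P, P = pull e OuterSAB.uGrp := ⟨_, rfl⟩
  have hPv : ∀ x, ((P x : OuterSAB.uGrp) : Cfsg.Spor.Fi22) = e x := fun x => by rw [hP]; rfl
  have hO : (Cfsg.pCore 2 ↥(OuterSAB.uGrp.comap e.toMonoidHom)).map (OuterSAB.uGrp.comap e.toMonoidHom).subtype =
      O₀.comap e.toMonoidHom := by
    ext g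
    rw [Subgroup.mem_comap, hO₀, ← CfsgLib.Base.map_pCore_mulEquiv (p := 2) P]
    constructor
    · rintro ⟨x, hx, rfl⟩
      exact ⟨P x, Subgroup.mem_map_of_mem _ hx, hPv x⟩
    · rintro ⟨y, ⟨x, hx, rfl⟩, hxe⟩
      exact ⟨x, hx, e.injective ((hPv x).symm.trans hxe)⟩
  refine ⟨OuterSAB.uGrp.comap e.toMonoidHom, O₀.comap e.toMonoidHom, fun g => ?_, hO.symm, ⟨⟨⟨fun x y => ?_⟩⟩,
    fun x hx => ?_⟩, ?_, ?_⟩
  · rw [Subgroup.mem_comap, hfix, hsab]; exact OuterSAB.mem_uGrp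
  · refine Subtype.ext (e.injective ?_)
    have := congrArg Subtype.val (hel.1.is_comm.comm ⟨e x, x.2⟩ ⟨e y, y.2⟩)
    show e ((x : G) * (y : G)) = e ((y : G) * (x : G))
    rw [map_mul, map_mul]
    exact this
  · refine e.injective ?_
    rw [map_pow, map_one]
    exact hel.2 _ hx
  · rw [Nat.card_congr (pull e O₀).toEquiv, hcard]
  · have hmap : ((O₀.comap e.toMonoidHom).subgroupOf (OuterSAB.uGrp.comap e.toMonoidHom)).map P.toMonoidHom =
        O₀.subgroupOf OuterSAB.uGrp := by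
      ext y
      obtain ⟨x, rfl⟩ := P.surjective y
      rw [show P x = P.toMonoidHom x from rfl, Subgroup.mem_map_iff_mem (f := P.toMonoidHom) P.injective,
        Subgroup.mem_subgroupOf, Subgroup.mem_subgroupOf, Subgroup.mem_comap]
      exact Iff.of_eq (congrArg (· ∈ O₀) (hPv x).symm)
    haveI := hn₀
    haveI hn : ((O₀.comap e.toMonoidHom).subgroupOf (OuterSAB.uGrp.comap e.toMonoidHom)).Normal := by
      have h := Subgroup.map_injective (f := P.toMonoidHom) P.injective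
        (hmap.trans (Subgroup.map_comap_eq_self_of_surjective (f := P.toMonoidHom) P.surjective _).symm)
      rw [h]; infer_instance
    exact ⟨hn, ⟨(QuotientGroup.congr _ _ P hmap).trans q⟩⟩

end CfsgLib.KnownB.TypeM22.OuterInv
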