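import Cfsg.Agent.Lib.KnownB.TypeM22.Pairs
import Cfsg.Agent.Lib.KnownB.TypeM22Unique.Main
import Cfsg.Agent.Lib.Spor.Fi22.PairCent.Basic

/-!
A group of type M(22) is the presented Fi22, with any given commuting pair at the standard one.
-/

set_option autoImplicit false

namespace CfsgLib.KnownB.TypeM22

open Cfsg CfsgLib.ThreeTransp CfsgLib.ThreeTransp.USix
open CfsgLib.Spor.Fi22
open CfsgLib.Spor.Fi22.PairCent (gb gb_nb)

universe v

variable {G : Type v} [Group G] [Finite G] {D : Set G}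

/-- The isomorphism putting a commuting pair at the standard place. -/
theorem exists_iso_pair (hD : IsThreeTranspositionGroup D) (hp : IsPrimitiveUnderConj D) (ht : IsOfTypeM22 G D)
    {a b : G} (ha : a ∈ D) (hb : b ∈ D) (hne : a ≠ b) (hc : Commute a b) :
    ∃ e : G ≃* Cfsg.Spor.Fi22, e '' D = conjugatesOf Transp.ga ∧ e a = Transp.ga ∧ e b = gb := by
  haveI := CfsgLib.Spor.Fi22.finite
  obtain ⟨e, he⟩ := Unique.exists_iso_fi22 hD hp ht
  obtain ⟨F, _, _, σ, hF, h, hP⟩ := CfsgLib.Spor.Fi22.PairCent.setting.exists_pmap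
  have hmem : ∀ {x : G}, x ∈ D → e x ∈ conjugatesOf Transp.ga := fun {x} hx => he ▸ ⟨x, hx, rfl⟩
  obtain ⟨g, hg⟩ := CfsgLib.Spor.Fi22.PairCent.setting.cls.trans _ (hmem ha) _ mem_conjugatesOf_self
  have hb' : g * e b * g⁻¹ ∈ nb (conjugatesOf Transp.ga) Transp.ga := by
    have := CfsgLib.Spor.Fi22.PairCent.setting.weak.nb_conj g
      (show e b ∈ nb (conjugatesOf Transp.ga) (e a) from
        ⟨hmem hb, fun e' => hne (e.injective e').symm, hc.map e⟩)
    rwa [hg] at this
  obtain ⟨k, hk, hkb⟩ :=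
    CfsgLib.Spor.Fi22.PairCent.setting.partner_trans hP mem_conjugatesOf_self hb' gb_nb
  refine ⟨e.trans (MulAut.conj (k * g)), ?_, ?_, ?_⟩
  · ext y
    constructor
    · rintro ⟨x, hx, rfl⟩
      exact CfsgLib.Spor.Fi22.PairCent.setting.cls.conj _ _ (hmem hx)
    · intro hy
      have := CfsgLib.Spor.Fi22.PairCent.setting.cls.conj (k * g)⁻¹ y hy
      rw [show CfsgLib.Spor.Fi22.PairCent.cl = e '' D from he.symm] at this
      obtain ⟨x, hx, hxe⟩ := this
      exact ⟨x, hx, by simp [MulEquiv.trans_apply, MulAut.conj_apply, hxe, mul_assoc]⟩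
  · show k * g * e a * (k * g)⁻¹ = Transp.ga
    calc k * g * e a * (k * g)⁻¹ = k * (g * e a * g⁻¹) * k⁻¹ := by group
      _ = Transp.ga := by rw [hg, hk.eq, mul_inv_cancel_right]
  · show k * g * e b * (k * g)⁻¹ = gb
    rw [← hkb]
    group

end CfsgLib.KnownB.TypeM22
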