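import Cfsg.Agent.Lib.KnownB.TypeM22Local.PairIso
import Cfsg.Agent.Lib.Spor.Fi22.PairCent.Action
import Cfsg.Agent.Lib.Spor.Fi22.PairCent.Centre

/-!
The centraliser of a product of two commuting members in a group of type M(22).
-/

set_option autoImplicit false

namespace CfsgLib.KnownB.TypeM22

open Cfsg CfsgLib.ThreeTransp
open CfsgLib.Spor.Fi22 CfsgLib.Spor.Fi22.PairCent

universe v

variable {G : Type v} [Group G] [Finite G] {D : Set G}

theorem comap_centralizer {H : Type*} [Group H] (e : G ≃* H) (s : Set G) (t : Set H) (h : e '' s = t) :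
    (Subgroup.centralizer t).comap e.toMonoidHom = Subgroup.centralizer s := by
  subst h
  ext x
  simp only [Subgroup.mem_comap, Subgroup.mem_centralizer_iff, Set.forall_mem_image, MulEquiv.coe_toMonoidHom]
  exact forall₂_congr fun y _ => by rw [← map_mul, ← map_mul, e.injective.eq_iff]

/-- The centraliser of the product of a commuting pair. -/
theorem pair_structure (hD : IsThreeTranspositionGroup D) (hp : IsPrimitiveUnderConj D) (ht : IsOfTypeM22 G D)
    {d₁ d₂ : G} (h₁ : d₁ ∈ D) (h₂ : d₂ ∈ D) (hne : d₁ ≠ d₂) (hc : Commute d₁ d₂) :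
    Subgroup.centralizer ({d₁, d₂} : Set G) ≤ Subgroup.centralizer ({d₁ * d₂} : Set G) ∧
      ((Subgroup.centralizer ({d₁, d₂} : Set G)).subgroupOf (Subgroup.centralizer ({d₁ * d₂} : Set G))).index = 2 ∧
      (Subgroup.center ↥(Subgroup.centralizer ({d₁, d₂} : Set G))).map
        (Subgroup.centralizer ({d₁, d₂} : Set G)).subtype = Subgroup.closure ({d₁, d₂} : Set G) ∧
      ∃ E : Subgroup G, Subgroup.closure ({d₁, d₂} : Set G) ≤ E ∧ E ≤ Subgroup.centralizer ({d₁ * d₂} : Set G) ∧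
        (∀ c ∈ Subgroup.centralizer ({d₁ * d₂} : Set G), ∀ x ∈ E, c * x * c⁻¹ ∈ E) ∧ Nat.card E = 2 ^ 10 ∧
        (∀ x ∈ E, ∀ y ∈ E, x * y * x⁻¹ * y⁻¹ ∈ Subgroup.closure ({d₁, d₂} : Set G) ∧
          x ^ 2 ∈ Subgroup.closure ({d₁, d₂} : Set G)) ∧
        ∃ (_ : (E.subgroupOf (Subgroup.centralizer ({d₁ * d₂} : Set G))).Normal) (F : Type) (_ : Field F)
          (_ : Fintype F), Fintype.card F = 4 ∧ Nonempty (↥(Subgroup.centralizer ({d₁ * d₂} : Set G)) ⧸
            E.subgroupOf (Subgroup.centralizer ({d₁ * d₂} : Set G)) ≃* MulAut (Cfsg.PSU 4 F 2)) := by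
  have S := setting_of hD hp ht
  obtain ⟨F, _, _, σ, hF, h, hP⟩ := S.exists_pmap
  obtain ⟨k1, k2⟩ := S.prod_centralizer hP h₁ (show d₂ ∈ nb D d₁ from ⟨h₂, hne.symm, hc⟩)
  obtain ⟨e, -, ea, eb⟩ := exists_iso_pair hD hp ht h₁ h₂ hne hc
  have himg : e '' {d₁, d₂} = {Transp.ga, gb} := by rw [Set.image_pair, ea, eb]
  have himg' : e '' {d₁ * d₂} = {gz} := by rw [Set.image_singleton, map_mul, ea, eb, gz]
  obtain ⟨C, hC⟩ : ∃ C, C = Subgroup.centralizer ({d₁ * d₂} : Set G) := ⟨_, rfl⟩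
  obtain ⟨V, hV⟩ : ∃ V, V = Subgroup.closure ({d₁, d₂} : Set G) := ⟨_, rfl⟩
  have hCe : C = cGrp.comap e.toMonoidHom := by rw [hC, cGrp, comap_centralizer e _ _ himg']
  have hVe : V = (Subgroup.closure {Transp.ga, gb}).comap e.toMonoidHom := by
    rw [← himg, hV, show e '' ({d₁, d₂} : Set G) = e.toMonoidHom '' {d₁, d₂} from rfl,
      ← MonoidHom.map_closure, Subgroup.comap_map_eq_self_of_injective e.injective]
  refine ⟨k1, k2, ?_, ?_⟩
  · rw [← hV, hVe, ← center_kGrp]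
    ext x
    simp only [Subgroup.mem_map, Subgroup.mem_comap, Subgroup.coe_subtype, MulEquiv.coe_toMonoidHom]
    have hK : kGrp.comap e.toMonoidHom = Subgroup.centralizer ({d₁, d₂} : Set G) :=
      comap_centralizer e _ _ himg
    constructor
    · rintro ⟨⟨y, hy⟩, hyc, rfl⟩
      refine ⟨⟨e y, Subgroup.mem_comap.1 (hK ▸ hy)⟩, Subgroup.mem_center_iff.2 fun g => Subtype.ext ?_, rfl⟩
      obtain ⟨g, hg⟩ := g
      have hg' : e.symm g ∈ Subgroup.centralizer ({d₁, d₂} : Set G) := hK ▸ (by simpa using hg)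
      have := congrArg (fun z : ↥(Subgroup.centralizer ({d₁, d₂} : Set G)) => e (z : G))
        (Subgroup.mem_center_iff.1 hyc ⟨e.symm g, hg'⟩)
      simpa using this
    · rintro ⟨⟨y, hy⟩, hyc, hxy⟩
      have hx : x ∈ Subgroup.centralizer ({d₁, d₂} : Set G) := by
        rw [← hK]; exact Subgroup.mem_comap.2 (show e x ∈ kGrp from hxy ▸ hy)
      refine ⟨⟨x, hx⟩, Subgroup.mem_center_iff.2 fun g => Subtype.ext (e.injective ?_), rfl⟩
      obtain ⟨g, hg⟩ := g
      have hg' : e g ∈ kGrp := Subgroup.mem_comap.1 (hK.symm ▸ hg)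
      have := congrArg Subtype.val (Subgroup.mem_center_iff.1 hyc ⟨e g, hg'⟩)
      simpa [← hxy] using this
  obtain ⟨E, hE⟩ : ∃ E, E = eGrp.comap e.toMonoidHom := ⟨_, rfl⟩
  have hmem : ∀ x, x ∈ E ↔ e x ∈ eGrp := fun x => by rw [hE]; rfl
  have hmC : ∀ x, x ∈ C ↔ e x ∈ cGrp := fun x => by rw [hCe]; rfl
  have hVle : ∀ y ∈ Subgroup.closure {Transp.ga, gb}, y ∈ eGrp := fun y hy => (Subgroup.closure_le _).2 (by
    rintro z (rfl | rfl)
    · exact xe_zero ▸ xe_eGrp 0 (by norm_num)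
    · exact xe_one ▸ xe_eGrp 1 (by norm_num)) hy
  have hgz : gz ∈ Subgroup.closure {Transp.ga, gb} :=
    mul_mem (Subgroup.subset_closure (by simp)) (Subgroup.subset_closure (by simp))
  refine ⟨E, ?_, ?_, ?_, ?_, ?_, ?_⟩
  · rw [← hV, hVe, hE]
    exact fun x hx => hVle _ hx
  · rw [← hC]
    exact fun x hx => (hmC x).2 (kGrp_le.1 (eGrp_le ((hmem x).1 hx)))
  · intro c hc' x hx
    rw [← hC] at hc'
    rw [hmem, map_mul, map_mul, map_inv]
    exact conj_eGrp ((hmC c).1 hc') ((hmem x).1 hx)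
  · rw [← card_eGrp]
    exact Nat.card_congr (Equiv.subtypeEquiv e.toEquiv fun x => hmem x)
  · intro x hx y hy
    rw [← hV, hVe]
    simp only [Subgroup.mem_comap, MulEquiv.coe_toMonoidHom, map_mul, map_inv, map_pow]
    refine ⟨?_, ?_⟩
    · rcases eGrp_comm ((hmem x).1 hx) ((hmem y).1 hy) with q | q <;> rw [q]
      · simp [one_mem]
      · rw [mul_assoc gz, mul_inv_cancel_right, mul_inv_cancel_right]
        exact hgz
    · rw [pow_two]
      rcases eGrp_sq ((hmem x).1 hx) with q | q <;> rw [q]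
      · exact one_mem _
      · exact hgz
  · obtain ⟨hn, ⟨α⟩⟩ := quot_aut
    rw [← hC]
    obtain ⟨ε, hε⟩ : ∃ ε : ↥C ≃* ↥cGrp, ∀ x : C, ((ε x : cGrp) : Cfsg.Spor.Fi22) = e x :=
      ⟨⟨Equiv.subtypeEquiv e.toEquiv hmC, fun a b => Subtype.ext (map_mul e (a : G) b)⟩, fun _ => rfl⟩
    have hmap : (E.subgroupOf C).map ε.toMonoidHom = eGrp.subgroupOf cGrp := by
      ext y
      simp only [Subgroup.mem_map, Subgroup.mem_subgroupOf, MulEquiv.coe_toMonoidHom]
      constructor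
      · rintro ⟨x, hx, rfl⟩; rw [hε]; exact (hmem _).1 hx
      · intro hy
        refine ⟨ε.symm y, (hmem _).2 ?_, ε.apply_symm_apply y⟩
        rw [← hε, ε.apply_symm_apply]
        exact hy
    have hn' : (E.subgroupOf C).Normal := by
      rw [← Subgroup.comap_map_eq_self_of_injective (f := ε.toMonoidHom) ε.injective (E.subgroupOf C), hmap]
      exact Subgroup.Normal.comap hn _
    haveI := hn'
    exact ⟨hn', CfsgLib.Spor.QField, inferInstance, inferInstance, CfsgLib.Spor.QField.card_eq,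
      ⟨(QuotientGroup.congr _ _ ε hmap).trans α⟩⟩

end CfsgLib.KnownB.TypeM22
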